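import Groth.Agent.KZeroDb.Euler
import Groth.Agent.CompDerived.CohComp
import Groth.Agent.FormalFun.Basic
import Groth.Agent.Devissage.Vanishing

/-!
# Coherent modules supported in a closed set
-/

universe u

open CategoryTheory Limits AlgebraicGeometry

namespace Groth.Agent.KZeroDb

variable {X : Scheme.{u}} [IsLocallyNoetherian X]

theorem isCoh_of_isZero {Z : X.Modules} (h : IsZero Z) : Coh.IsCoh Z :=
  CompDerived.isCoh_of_isZero' h _ (Devissage.isCoh_structureModule X)

theorem support_of_isZero {Z : X.Modules} (h : IsZero Z) : CohB1.support Z = ∅ := by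
  refine Set.eq_empty_iff_forall_notMem.2 fun x hx => ?_
  obtain ⟨U, hU, hxU, -⟩ :=
    TopologicalSpace.Opens.isBasis_iff_nbhd.1 X.isBasis_affineOpens (U := ⊤) (TopologicalSpace.Opens.mem_top x)
  haveI : Subsingleton Γ(Z, U) := subsingleton_of_forall_eq 0 fun s => by
    have := congrArg (fun f : Z ⟶ Z => f.app U s) (h.eq_of_src (𝟙 Z) 0)
    exact this
  haveI : Z.IsQuasicoherent := (isCoh_of_isZero h).1
  have := (QCohBase.mem_support_iff Z hU x hxU).2 hx
  rw [Module.support_eq_empty] at this
  exact this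

instance : ObjectProperty.IsClosedUnderIsomorphisms (fun M : X.Modules => Coh.IsCoh M) :=
  ⟨fun e h => CompDerived.isCoh_of_iso' e h⟩

instance (Y' : Set X) :
    ObjectProperty.IsClosedUnderIsomorphisms (fun M : X.Modules => Coh.IsCoh M ∧ CohB1.support M ⊆ Y') :=
  ⟨fun e h => ⟨CompDerived.isCoh_of_iso' e h.1, (Devissage.support_eq_of_iso e).symm.trans_subset h.2⟩⟩

theorem good_coh : Good (fun M : X.Modules => Coh.IsCoh M) where
  zero h := isCoh_of_isZero h
  ker f hM hN := QCohBase.isCoh_kernel f hM hN.1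
  coker f hM hN := QCohBase.isCoh_cokernel f hM.1 hN

theorem good_coh_supp (Y' : Set X) : Good (fun M : X.Modules => Coh.IsCoh M ∧ CohB1.support M ⊆ Y') where
  zero h := ⟨isCoh_of_isZero h, (support_of_isZero h).trans_subset (Set.empty_subset _)⟩
  ker {M N} f hM hN := by
    have hk := QCohBase.isCoh_kernel f hM.1 hN.1.1
    let E : ShortComplex X.Modules := ShortComplex.mk (kernel.ι f) (cokernel.π (kernel.ι f)) (cokernel.condition _)
    have hE : E.ShortExact :=
      { exact := ShortComplex.exact_of_g_is_cokernel _ (cokernelIsCokernel _)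
        mono_f := inferInstanceAs (Mono (kernel.ι f))
        epi_g := inferInstanceAs (Epi (cokernel.π (kernel.ι f))) }
    exact ⟨hk, (Set.subset_union_left.trans_eq
      (QCohBase.support_of_shortExact hE hk.1 hM.1.1 (QCohBase.isCoh_cokernel (kernel.ι f) hk.1 hM.1).1).symm).trans hM.2⟩
  coker {M N} f hM hN :=
    ⟨QCohBase.isCoh_cokernel f hM.1.1 hN.1, (FormalFun.support_subset_of_epi (cokernel.π f) hN.1
      (QCohBase.isCoh_cokernel f hM.1.1 hN.1).1).trans hN.2⟩

end Groth.Agent.KZeroDb
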