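import Groth.Prelude.Def_KZero
import Mathlib.Algebra.Homology.DerivedCategory.TStructure
import Mathlib.Algebra.Homology.DerivedCategory.SingleTriangle
import Mathlib.Algebra.BigOperators.Finprod
import Mathlib.Algebra.Ring.NegOnePow
import Mathlib.Data.Int.Interval
import Mathlib.CategoryTheory.Triangulated.TStructure.TruncLTGE
import Mathlib.Algebra.Homology.SingleHomology

/-!
# `K₀` of bounded objects with cohomology in a class
-/

universe w v u

open CategoryTheory Limits Pretriangulated
open scoped ZeroObject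

namespace Groth.Agent.KZeroDb

set_option linter.style.haveILetI false
set_option linter.unusedSectionVars false

variable {A : Type u} [Category.{v} A] [Abelian A] (P : ObjectProperty A)

/-- Closed under zero objects, kernels and cokernels. -/
structure Good : Prop where
  zero : ∀ {X : A}, IsZero X → P X
  ker : ∀ {X Y : A} (f : X ⟶ Y), P X → P Y → P (kernel f)
  coker : ∀ {X Y : A} (f : X ⟶ Y), P X → P Y → P (cokernel f)

variable {P}

theorem cl_ses (S : ShortComplex A) (hS : S.ShortExact) (h1 : P S.X₁) (h2 : P S.X₂) (h3 : P S.X₃) :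
    KZero.clSub P S.X₂ = KZero.clSub P S.X₁ + KZero.clSub P S.X₃ := by
  rw [KZero.clSub, KZero.clSub, KZero.clSub, dif_pos h1, dif_pos h2, dif_pos h3, ← sub_eq_zero, ← sub_sub]
  exact (QuotientAddGroup.eq_zero_iff _).2 (AddSubgroup.subset_closure ⟨S, h1, h2, h3, hS, rfl⟩)

theorem Good.cl_zero (hP : Good P) {Z : A} (hZ : IsZero Z) : KZero.clSub P Z = 0 := by
  let S : ShortComplex A := ShortComplex.mk (0 : Z ⟶ Z) (0 : Z ⟶ Z) comp_zero
  have hS : S.ShortExact :=
    { exact := ShortComplex.exact_of_isZero_X₂ _ hZ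
      mono_f := ⟨fun a b _ => hZ.eq_of_tgt a b⟩
      epi_g := ⟨fun a b _ => hZ.eq_of_src a b⟩ }
  exact left_eq_add.1 (cl_ses S hS (hP.zero hZ) (hP.zero hZ) (hP.zero hZ))

/-- The class of the middle term of an exact sequence. -/
theorem Good.cl_exact [P.IsClosedUnderIsomorphisms] (hP : Good P) (S : ShortComplex A) (hS : S.Exact)
    (h1 : P S.X₁) (h2 : P S.X₂) (h3 : P S.X₃) :
    KZero.clSub P S.X₁ = KZero.clSub P (kernel S.f) + KZero.clSub P (kernel S.g) := by
  haveI := hS.epi_kernelLift
  let l := kernel.lift S.g S.f S.zero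
  have hw : kernel.ι S.f ≫ l = 0 := by
    rw [← cancel_mono (kernel.ι S.g), Category.assoc, kernel.lift_ι, kernel.condition, zero_comp]
  let T := ShortComplex.mk (kernel.ι S.f) l hw
  let T' := ShortComplex.mk (kernel.ι S.f) S.f (kernel.condition S.f)
  let m : T ⟶ T' := { τ₁ := 𝟙 _, τ₂ := 𝟙 _, τ₃ := kernel.ι S.g }
  haveI : Epi m.τ₁ := inferInstanceAs (Epi (𝟙 _))
  haveI : IsIso m.τ₂ := inferInstanceAs (IsIso (𝟙 _))
  haveI : Mono m.τ₃ := inferInstanceAs (Mono (kernel.ι S.g))
  have hT : T.ShortExact :=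
    { exact := (ShortComplex.exact_iff_of_epi_of_isIso_of_mono m).2 (ShortComplex.exact_of_f_is_kernel _ (kernelIsKernel S.f))
      mono_f := inferInstanceAs (Mono (kernel.ι S.f))
      epi_g := inferInstanceAs (Epi l) }
  exact cl_ses T hT (hP.ker _ h1 h2) h1 (hP.ker _ h2 h3)

variable [HasDerivedCategory.{w} A] (P)

/-- The cohomology lies in `P` and is bounded. -/
structure Obj (K : DerivedCategory A) : Prop where
  bdd : ∃ a b : ℤ, K.IsGE a ∧ K.IsLE b
  prop : ∀ i : ℤ, P ((DerivedCategory.homologyFunctor A i).obj K)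

/-- The terms of the Euler characteristic. -/
noncomputable def term (K : DerivedCategory A) (i : ℤ) : KZero.K0sub P :=
  (i.negOnePow : ℤ) • KZero.clSub P ((DerivedCategory.homologyFunctor A i).obj K)

/-- The Euler characteristic. -/
noncomputable def chi (K : DerivedCategory A) : KZero.K0sub P := ∑ᶠ i : ℤ, term P K i

variable {P}

theorem exists_window {K : DerivedCategory A} (h : Obj P K) :
    ∃ a b : ℤ, ∀ i, (i < a ∨ b < i) → IsZero ((DerivedCategory.homologyFunctor A i).obj K) := by
  obtain ⟨a, b, ha, hb⟩ := h.bdd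
  exact ⟨a, b, fun i hi => hi.elim ((K.isGE_iff a).1 ha i) ((K.isLE_iff b).1 hb i)⟩

theorem finite_support (hP : Good P) {K : DerivedCategory A} (h : Obj P K) :
    (Function.support (term P K)).Finite := by
  obtain ⟨a, b, hab⟩ := exists_window h
  refine (Finset.Icc a b).finite_toSet.subset fun i hi => ?_
  rw [Finset.coe_Icc, Set.mem_Icc]
  by_contra hc
  exact hi (by rw [term, hP.cl_zero (hab i (by omega)), smul_zero])

theorem chi_triangle [P.IsClosedUnderIsomorphisms] (hP : Good P) {T : Triangle (DerivedCategory A)}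
    (hT : T ∈ distTriang _) (h1 : Obj P T.obj₁) (h2 : Obj P T.obj₂) (h3 : Obj P T.obj₃) :
    chi P T.obj₂ = chi P T.obj₁ + chi P T.obj₃ := by
  let k : ℤ → KZero.K0sub P := fun i => KZero.clSub P (kernel ((DerivedCategory.homologyFunctor A i).map T.mor₁))
  let k' : ℤ → KZero.K0sub P := fun i => (i.negOnePow : ℤ) • k i
  have hk : (Function.support k').Finite := by
    obtain ⟨a, b, hab⟩ := exists_window h1
    refine (Finset.Icc a b).finite_toSet.subset fun i hi => ?_
    rw [Finset.coe_Icc, Set.mem_Icc]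
    by_contra hc
    refine hi ?_
    show (i.negOnePow : ℤ) • k i = 0
    rw [show k i = 0 from hP.cl_zero (IsZero.of_mono (kernel.ι _) (hab i (by omega))), smul_zero]
  have key : ∀ i, term P T.obj₁ i + term P T.obj₃ i = term P T.obj₂ i + (k' i - k' (i + 1)) := fun i => by
    have e1 := hP.cl_exact _ (DerivedCategory.HomologySequence.exact₂ T hT i) (h1.prop i) (h2.prop i) (h3.prop i)
    have e2 := hP.cl_exact _ (DerivedCategory.HomologySequence.exact₃ T hT i (i + 1) rfl) (h2.prop i) (h3.prop i) (h1.prop (i + 1))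
    have e3 := hP.cl_exact _ (DerivedCategory.HomologySequence.exact₁ T hT i (i + 1) rfl) (h3.prop i) (h1.prop (i + 1)) (h2.prop (i + 1))
    dsimp only at e1 e2 e3
    simp only [term, k', k, Int.negOnePow_succ, Units.val_neg, neg_smul, sub_neg_eq_add]
    rw [← smul_add, ← smul_add, ← smul_add, e1, e2, e3]
    congr 1
    abel
  have hk1 : (Function.support fun i => k' (i + 1)).Finite :=
    hk.preimage ((Equiv.addRight (1 : ℤ)).injective.injOn)
  have hs : ∑ᶠ i, (k' i - k' (i + 1)) = 0 := by
    rw [finsum_sub_distrib hk hk1, sub_eq_zero]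
    exact (finsum_comp_equiv (Equiv.addRight (1 : ℤ)) (f := k')).symm
  have := finsum_congr key
  rw [finsum_add_distrib (finite_support hP h1) (finite_support hP h3),
    finsum_add_distrib (finite_support hP h2) ((hk.union hk1).subset (Function.support_sub _ _)), hs, add_zero] at this
  exact this.symm

theorem isZero_single_homology (Y : A) {n i : ℤ} (hi : i ≠ n) :
    IsZero ((DerivedCategory.homologyFunctor A i).obj ((DerivedCategory.singleFunctor A n).obj Y)) :=
  (HomologicalComplex.isZero_single_obj_homology (ComplexShape.up ℤ) n Y i hi).of_iso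
    ((DerivedCategory.homologyFunctorFactors A i).app _)

/-- The homology of a single object. -/
noncomputable def singleIso (Y : A) (n : ℤ) :
    (DerivedCategory.homologyFunctor A n).obj ((DerivedCategory.singleFunctor A n).obj Y) ≅ Y :=
  (DerivedCategory.homologyFunctorFactors A n).app _ ≪≫ HomologicalComplex.singleObjHomologySelfIso (ComplexShape.up ℤ) n Y

theorem obj_single [P.IsClosedUnderIsomorphisms] (hP : Good P) {Y : A} (hY : P Y) (n : ℤ) :
    Obj P ((DerivedCategory.singleFunctor A n).obj Y) := by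
  refine ⟨⟨n, n, (DerivedCategory.isGE_iff _ n).2 fun i hi => isZero_single_homology Y hi.ne,
    (DerivedCategory.isLE_iff _ n).2 fun i hi => isZero_single_homology Y hi.ne'⟩, fun i => ?_⟩
  by_cases h : i = n
  · subst h
    exact P.prop_of_iso (singleIso Y i).symm hY
  · exact hP.zero (isZero_single_homology Y h)

theorem chi_single [P.IsClosedUnderIsomorphisms] (hP : Good P) {Y : A} (hY : P Y) :
    chi P ((DerivedCategory.singleFunctor A 0).obj Y) = KZero.clSub P Y := by
  rw [chi, finsum_eq_single _ 0 fun i hi => by rw [term, hP.cl_zero (isZero_single_homology Y hi), smul_zero]]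
  rw [term, Int.negOnePow_zero, Units.val_one, one_smul]
  have hY' := P.prop_of_iso (singleIso Y 0).symm hY
  let S : ShortComplex A := ShortComplex.mk (singleIso Y 0).hom (0 : Y ⟶ (0 : A)) comp_zero
  have hS : S.Exact := (S.exact_iff_epi rfl).2 (inferInstanceAs (Epi (singleIso Y 0).hom))
  have e := hP.cl_exact S hS hY' hY (hP.zero (isZero_zero A))
  rw [hP.cl_zero (isZero_kernel_of_mono S.f), zero_add] at e
  rw [e]
  let S' : ShortComplex A := ShortComplex.mk (kernel.ι S.g) S.g (kernel.condition S.g)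
  have hS' : S'.ShortExact :=
    { exact := ShortComplex.exact_of_f_is_kernel _ (kernelIsKernel S.g)
      mono_f := inferInstanceAs (Mono (kernel.ι S.g))
      epi_g := ⟨fun a b _ => (isZero_zero A).eq_of_src a b⟩ }
  have e' := cl_ses S' hS' (hP.ker _ hY (hP.zero (isZero_zero A))) hY (hP.zero (isZero_zero A))
  rw [show KZero.clSub P S'.X₃ = 0 from hP.cl_zero (isZero_zero A), add_zero] at e'
  exact e'.symm

section Compare

variable (Q : ObjectProperty (DerivedCategory A)) (hQ : ∀ K, Q K ↔ Obj P K)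
include hQ

theorem cl_triangle {T : Triangle (DerivedCategory A)} (hT : T ∈ distTriang _) (h1 : Q T.obj₁) (h2 : Q T.obj₂)
    (h3 : Q T.obj₃) : KZero.clTr Q T.obj₂ = KZero.clTr Q T.obj₁ + KZero.clTr Q T.obj₃ := by
  rw [KZero.clTr, KZero.clTr, KZero.clTr, dif_pos h1, dif_pos h2, dif_pos h3, ← sub_eq_zero, ← sub_sub]
  exact (QuotientAddGroup.eq_zero_iff _).2 (AddSubgroup.subset_closure ⟨T, h1, h2, h3, hT, rfl⟩)

variable [P.IsClosedUnderIsomorphisms] (hP : Good P)
include hP

theorem q_zero {Z : DerivedCategory A} (hZ : IsZero Z) : Q Z :=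
  (hQ Z).2 ⟨⟨0, 0, (DerivedCategory.isGE_iff _ 0).2 fun i _ => Functor.map_isZero (DerivedCategory.homologyFunctor A i) hZ,
    (DerivedCategory.isLE_iff _ 0).2 fun i _ => Functor.map_isZero (DerivedCategory.homologyFunctor A i) hZ⟩,
    fun i => hP.zero (Functor.map_isZero (DerivedCategory.homologyFunctor A i) hZ)⟩

theorem cl_isZero {Z : DerivedCategory A} (hZ : IsZero Z) : KZero.clTr Q Z = 0 := by
  have h0 := q_zero Q hQ hP hZ
  have e := cl_triangle Q hQ (T := Triangle.mk (𝟙 Z) (0 : Z ⟶ Z) 0)
    (isomorphic_distinguished _ (contractible_distinguished Z) _ (Triangle.isoMk _ _ (Iso.refl _) (Iso.refl _)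
      (hZ.iso (isZero_zero _)) rfl ((isZero_zero _).eq_of_tgt _ _) (hZ.eq_of_src _ _))) h0 h0 h0
  exact left_eq_add.1 e

theorem q_iso {X Y : DerivedCategory A} (e : X ≅ Y) (h : Q X) : Q Y := by
  obtain ⟨⟨a, b, ha, hb⟩, hp⟩ := (hQ X).1 h
  refine (hQ Y).2 ⟨⟨a, b, ?_, ?_⟩, fun i => P.prop_of_iso ((DerivedCategory.homologyFunctor A i).mapIso e) (hp i)⟩
  · exact (DerivedCategory.isGE_iff _ a).2 fun i hi =>
      ((X.isGE_iff a).1 ha i hi).of_iso ((DerivedCategory.homologyFunctor A i).mapIso e).symm
  · exact (DerivedCategory.isLE_iff _ b).2 fun i hi =>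
      ((X.isLE_iff b).1 hb i hi).of_iso ((DerivedCategory.homologyFunctor A i).mapIso e).symm

theorem cl_iso {X Y : DerivedCategory A} (e : X ≅ Y) (h : Q X) : KZero.clTr Q Y = KZero.clTr Q X := by
  have := cl_triangle Q hQ (T := Triangle.mk e.hom (0 : Y ⟶ 0) 0)
    (isomorphic_distinguished _ (contractible_distinguished X) _ (Triangle.isoMk _ _ (Iso.refl _) e.symm (Iso.refl _)
      (e.hom_inv_id.trans (Category.id_comp _).symm) ((isZero_zero _).eq_of_tgt _ _) ((isZero_zero _).eq_of_src _ _)))
    h (q_iso Q hQ hP e h) (q_zero Q hQ hP (isZero_zero _))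
  change KZero.clTr Q Y = KZero.clTr Q X + KZero.clTr Q (0 : DerivedCategory A) at this
  rwa [cl_isZero Q hQ hP (isZero_zero _), add_zero] at this

/-- The comparison map. -/
theorem exists_hom : ∃ α : KZero.K0sub P →+ KZero.K0tr Q,
    ∀ Y, P Y → α (KZero.clSub P Y) = KZero.clTr Q ((DerivedCategory.singleFunctor A 0).obj Y) := by
  let f : FreeAbelianGroup (Subtype P) →+ KZero.K0tr Q :=
    FreeAbelianGroup.lift fun Y => KZero.clTr Q ((DerivedCategory.singleFunctor A 0).obj Y.1)
  have hf : KZero.relSub P ≤ f.ker := by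
    rw [KZero.relSub, AddSubgroup.closure_le]
    rintro x ⟨S, h1, h2, h3, hS, rfl⟩
    show f _ = 0
    simp only [f, map_sub, FreeAbelianGroup.lift_apply_of]
    rw [sub_sub, sub_eq_zero]
    exact cl_triangle Q hQ (T := hS.singleTriangle) hS.singleTriangle_distinguished
      ((hQ _).2 (obj_single hP h1 0)) ((hQ _).2 (obj_single hP h2 0)) ((hQ _).2 (obj_single hP h3 0))
  refine ⟨QuotientAddGroup.lift _ f hf, fun Y hY => ?_⟩
  rw [KZero.clSub, dif_pos hY]
  exact FreeAbelianGroup.lift_apply_of _ _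

theorem shift_mem (S : AddSubgroup (KZero.K0tr Q)) (Y : A) (hY : P Y)
    (h : KZero.clTr Q ((DerivedCategory.singleFunctor A 0).obj Y) ∈ S) (n : ℤ) :
    KZero.clTr Q ((DerivedCategory.singleFunctor A n).obj Y) ∈ S := by
  have hstep : ∀ m : ℤ, KZero.clTr Q ((DerivedCategory.singleFunctor A m).obj Y) +
      KZero.clTr Q ((DerivedCategory.singleFunctor A (m - 1)).obj Y) = 0 := fun m => by
    let Z := (DerivedCategory.singleFunctor A m).obj Y
    have e : Z⟦(1 : ℤ)⟧ ≅ (DerivedCategory.singleFunctor A (m - 1)).obj Y :=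
      ((DerivedCategory.singleFunctors A).shiftIso 1 (m - 1) m (by omega)).app Y
    have hZ : Q Z := (hQ _).2 (obj_single hP hY m)
    have hZ1 : Q (Z⟦(1 : ℤ)⟧) := q_iso Q hQ hP e.symm ((hQ _).2 (obj_single hP hY _))
    have := cl_triangle Q hQ (rot_of_distTriang _ (contractible_distinguished Z)) hZ (q_zero Q hQ hP (isZero_zero _)) hZ1
    change KZero.clTr Q (0 : DerivedCategory A) = KZero.clTr Q Z + KZero.clTr Q (Z⟦(1 : ℤ)⟧) at this
    rw [cl_isZero Q hQ hP (isZero_zero _), ← cl_iso Q hQ hP e hZ1] at this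
    exact this.symm
  induction n using Int.induction_on with
  | zero => exact h
  | succ k ih =>
    have := hstep ((k : ℤ) + 1)
    rw [add_sub_cancel_right] at this
    rw [eq_neg_of_add_eq_zero_left this]
    exact S.neg_mem ih
  | pred k ih =>
    rw [eq_neg_of_add_eq_zero_right (hstep (-(k : ℤ)))]
    exact S.neg_mem ih

theorem mem_of_window (S : AddSubgroup (KZero.K0tr Q))
    (h : ∀ Y, P Y → KZero.clTr Q ((DerivedCategory.singleFunctor A 0).obj Y) ∈ S) :
    ∀ (c : ℕ) (a : ℤ) (K : DerivedCategory A), Q K → K.IsGE a → K.IsLE (a + c - 1) → KZero.clTr Q K ∈ S := by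
  intro c
  induction c with
  | zero =>
    intro a K _ ha hb
    have : IsIso (0 : K ⟶ 0) := (DerivedCategory.isIso_iff _ _).2 fun i => by
      have hz : IsZero ((DerivedCategory.homologyFunctor A i).obj K) := by
        by_cases hi : i < a
        · exact (K.isGE_iff a).1 ha i hi
        · exact (K.isLE_iff _).1 hb i (by push_cast; omega)
      exact ⟨0, hz.eq_of_src _ _, (Functor.map_isZero (DerivedCategory.homologyFunctor A i) (isZero_zero _)).eq_of_src _ _⟩
    rw [cl_isZero Q hQ hP ((isZero_zero _).of_iso (asIso (0 : K ⟶ 0)))]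
    exact S.zero_mem
  | succ c ih =>
    intro a K hK ha hb
    let n : ℤ := a + c
    haveI : K.IsLE n := by
      refine (K.isLE_iff _).2 fun i hi => (K.isLE_iff _).1 hb i (by push_cast; omega)
    let t := DerivedCategory.TStructure.t (C := A)
    let T := (t.triangleLTGE n).obj K
    have hT : T ∈ distTriang _ := t.triangleLTGE_distinguished n K
    haveI h1 : T.obj₁.IsLE (n - 1) := t.isLE_truncLT_obj K n (n - 1) (by omega)
    haveI h3 : T.obj₃.IsGE n := t.isGE_truncGE_obj K n n le_rfl
    have hz1 : ∀ i, n ≤ i → IsZero ((DerivedCategory.homologyFunctor A i).obj T.obj₁) := fun i hi =>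
      (T.obj₁.isLE_iff (n - 1)).1 h1 i (by omega)
    have hz3 : ∀ i, i < n → IsZero ((DerivedCategory.homologyFunctor A i).obj T.obj₃) := (T.obj₃.isGE_iff n).1 h3
    have iso1 : ∀ i, i < n → IsIso ((DerivedCategory.homologyFunctor A i).map T.mor₁) := fun i hi => by
      haveI := (DerivedCategory.HomologySequence.mono_homologyMap_mor₁_iff _ hT (i - 1) i (by omega)).2
        ((hz3 (i - 1) (by omega)).eq_of_src _ _)
      haveI := (DerivedCategory.HomologySequence.epi_homologyMap_mor₁_iff _ hT i).2 ((hz3 i hi).eq_of_tgt _ _)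
      exact isIso_of_mono_of_epi _
    have iso2 : ∀ i, n ≤ i → IsIso ((DerivedCategory.homologyFunctor A i).map T.mor₂) := fun i hi => by
      haveI := (DerivedCategory.HomologySequence.mono_homologyMap_mor₂_iff _ hT i).2 ((hz1 i hi).eq_of_src _ _)
      haveI := (DerivedCategory.HomologySequence.epi_homologyMap_mor₂_iff _ hT i (i + 1) rfl).2
        ((hz1 (i + 1) (by omega)).eq_of_tgt _ _)
      exact isIso_of_mono_of_epi _
    haveI h1' : T.obj₁.IsGE a := (T.obj₁.isGE_iff a).2 fun i hi => by
      exact ((K.isGE_iff a).1 ha i hi).of_iso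
        (@asIso _ _ _ _ ((DerivedCategory.homologyFunctor A i).map T.mor₁) (iso1 i (show i < a + (c : ℤ) by omega)))
    haveI h3' : T.obj₃.IsLE n := (T.obj₃.isLE_iff n).2 fun i hi => by
      haveI := iso2 i (by omega)
      exact ((K.isLE_iff n).1 inferInstance i hi).of_iso (asIso ((DerivedCategory.homologyFunctor A i).map T.mor₂)).symm
    have hp := ((hQ K).1 hK).prop
    have q1 : Q T.obj₁ := (hQ _).2 ⟨⟨a, n - 1, h1', h1⟩, fun i => by
      by_cases hi : i < n
      · haveI := iso1 i hi
        exact P.prop_of_iso (asIso ((DerivedCategory.homologyFunctor A i).map T.mor₁)).symm (hp i)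
      · exact hP.zero (hz1 i (by omega))⟩
    obtain ⟨Y, ⟨eY⟩⟩ := DerivedCategory.exists_iso_singleFunctor_obj_of_isGE_of_isLE T.obj₃ n
    have hY : P Y := by
      haveI := iso2 n le_rfl
      exact P.prop_of_iso (asIso ((DerivedCategory.homologyFunctor A n).map T.mor₂) ≪≫
        (DerivedCategory.homologyFunctor A n).mapIso eY ≪≫ singleIso Y n) (hp n)
    have q3 : Q T.obj₃ := q_iso Q hQ hP eY.symm ((hQ _).2 (obj_single hP hY n))
    rw [show KZero.clTr Q K = _ from cl_triangle Q hQ hT q1 hK q3,
      cl_iso Q hQ hP eY.symm ((hQ _).2 (obj_single hP hY n))]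
    exact S.add_mem (ih a _ q1 h1' ((T.obj₁.isLE_iff _).2 fun i hi => hz1 i (by omega)))
      (shift_mem Q hQ hP S Y hY (h Y hY) n)

/-- Dévissage of an object property. -/
theorem prop_of_window (R : ObjectProperty (DerivedCategory A)) [R.IsClosedUnderIsomorphisms]
    (h0 : ∀ Z, IsZero Z → R Z)
    (hext : ∀ T : Triangle (DerivedCategory A), T ∈ distTriang _ → R T.obj₁ → R T.obj₃ → R T.obj₂)
    (hsingle : ∀ Y n, P Y → R ((DerivedCategory.singleFunctor A n).obj Y)) :
    ∀ (c : ℕ) (a : ℤ) (K : DerivedCategory A), Q K → K.IsGE a → K.IsLE (a + c - 1) → R K := by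
  intro c
  induction c with
  | zero =>
    intro a K _ ha hb
    have : IsIso (0 : K ⟶ 0) := (DerivedCategory.isIso_iff _ _).2 fun i => by
      have hz : IsZero ((DerivedCategory.homologyFunctor A i).obj K) := by
        by_cases hi : i < a
        · exact (K.isGE_iff a).1 ha i hi
        · exact (K.isLE_iff _).1 hb i (by push_cast; omega)
      exact ⟨0, hz.eq_of_src _ _, (Functor.map_isZero (DerivedCategory.homologyFunctor A i) (isZero_zero _)).eq_of_src _ _⟩
    exact h0 K ((isZero_zero _).of_iso (asIso (0 : K ⟶ 0)))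
  | succ c ih =>
    intro a K hK ha hb
    let n : ℤ := a + c
    haveI : K.IsLE n := by
      refine (K.isLE_iff _).2 fun i hi => (K.isLE_iff _).1 hb i (by push_cast; omega)
    let t := DerivedCategory.TStructure.t (C := A)
    let T := (t.triangleLTGE n).obj K
    have hT : T ∈ distTriang _ := t.triangleLTGE_distinguished n K
    haveI h1 : T.obj₁.IsLE (n - 1) := t.isLE_truncLT_obj K n (n - 1) (by omega)
    haveI h3 : T.obj₃.IsGE n := t.isGE_truncGE_obj K n n le_rfl
    have hz1 : ∀ i, n ≤ i → IsZero ((DerivedCategory.homologyFunctor A i).obj T.obj₁) := fun i hi =>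
      (T.obj₁.isLE_iff (n - 1)).1 h1 i (by omega)
    have hz3 : ∀ i, i < n → IsZero ((DerivedCategory.homologyFunctor A i).obj T.obj₃) := (T.obj₃.isGE_iff n).1 h3
    have iso1 : ∀ i, i < n → IsIso ((DerivedCategory.homologyFunctor A i).map T.mor₁) := fun i hi => by
      haveI := (DerivedCategory.HomologySequence.mono_homologyMap_mor₁_iff _ hT (i - 1) i (by omega)).2
        ((hz3 (i - 1) (by omega)).eq_of_src _ _)
      haveI := (DerivedCategory.HomologySequence.epi_homologyMap_mor₁_iff _ hT i).2 ((hz3 i hi).eq_of_tgt _ _)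
      exact isIso_of_mono_of_epi _
    have iso2 : ∀ i, n ≤ i → IsIso ((DerivedCategory.homologyFunctor A i).map T.mor₂) := fun i hi => by
      haveI := (DerivedCategory.HomologySequence.mono_homologyMap_mor₂_iff _ hT i).2 ((hz1 i hi).eq_of_src _ _)
      haveI := (DerivedCategory.HomologySequence.epi_homologyMap_mor₂_iff _ hT i (i + 1) rfl).2
        ((hz1 (i + 1) (by omega)).eq_of_tgt _ _)
      exact isIso_of_mono_of_epi _
    haveI h1' : T.obj₁.IsGE a := (T.obj₁.isGE_iff a).2 fun i hi => by
      exact ((K.isGE_iff a).1 ha i hi).of_iso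
        (@asIso _ _ _ _ ((DerivedCategory.homologyFunctor A i).map T.mor₁) (iso1 i (show i < a + (c : ℤ) by omega)))
    haveI h3' : T.obj₃.IsLE n := (T.obj₃.isLE_iff n).2 fun i hi => by
      haveI := iso2 i (by omega)
      exact ((K.isLE_iff n).1 inferInstance i hi).of_iso (asIso ((DerivedCategory.homologyFunctor A i).map T.mor₂)).symm
    have hp := ((hQ K).1 hK).prop
    have q1 : Q T.obj₁ := (hQ _).2 ⟨⟨a, n - 1, h1', h1⟩, fun i => by
      by_cases hi : i < n
      · haveI := iso1 i hi
        exact P.prop_of_iso (asIso ((DerivedCategory.homologyFunctor A i).map T.mor₁)).symm (hp i)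
      · exact hP.zero (hz1 i (by omega))⟩
    obtain ⟨Y, ⟨eY⟩⟩ := DerivedCategory.exists_iso_singleFunctor_obj_of_isGE_of_isLE T.obj₃ n
    have hY : P Y := by
      haveI := iso2 n le_rfl
      exact P.prop_of_iso (asIso ((DerivedCategory.homologyFunctor A n).map T.mor₂) ≪≫
        (DerivedCategory.homologyFunctor A n).mapIso eY ≪≫ singleIso Y n) (hp n)
    have q3 : Q T.obj₃ := q_iso Q hQ hP eY.symm ((hQ _).2 (obj_single hP hY n))
    exact hext T hT (ih a _ q1 h1' ((T.obj₁.isLE_iff _).2 fun i hi => hz1 i (by omega)))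
      (R.prop_of_iso eY.symm (hsingle Y n hY))

/-- The main theorem. -/
theorem exists_equiv : ∃ φ : KZero.K0sub P ≃+ KZero.K0tr Q,
    ∀ Y, P Y → φ (KZero.clSub P Y) = KZero.clTr Q ((DerivedCategory.singleFunctor A 0).obj Y) := by
  obtain ⟨α, hα⟩ := exists_hom Q hQ hP
  let g : FreeAbelianGroup (Subtype Q) →+ KZero.K0sub P := FreeAbelianGroup.lift fun K => chi P K.1
  have hg : KZero.relTr Q ≤ g.ker := by
    rw [KZero.relTr, AddSubgroup.closure_le]
    rintro x ⟨T, h1, h2, h3, hT, rfl⟩
    show g _ = 0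
    simp only [g, map_sub, FreeAbelianGroup.lift_apply_of]
    rw [sub_sub, sub_eq_zero]
    exact chi_triangle hP hT ((hQ _).1 h1) ((hQ _).1 h2) ((hQ _).1 h3)
  let β : KZero.K0tr Q →+ KZero.K0sub P := QuotientAddGroup.lift _ g hg
  have hβ : ∀ x, β (α x) = x := by
    intro x
    induction x using QuotientAddGroup.induction_on with
    | H z =>
      induction z using FreeAbelianGroup.induction_on with
      | zero => exact (congrArg β (map_zero α)).trans (map_zero β)
      | of Y =>
        have e : (QuotientAddGroup.mk (FreeAbelianGroup.of Y) : KZero.K0sub P) = KZero.clSub P Y.1 := by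
          rw [KZero.clSub, dif_pos Y.2]
        rw [e, hα _ Y.2, KZero.clTr, dif_pos ((hQ _).2 (obj_single hP Y.2 0))]
        exact (FreeAbelianGroup.lift_apply_of _ _).trans (chi_single hP Y.2)
      | neg Y ih =>
        rw [show ((-FreeAbelianGroup.of Y : FreeAbelianGroup (Subtype P)) : KZero.K0sub P) =
          -((FreeAbelianGroup.of Y : FreeAbelianGroup (Subtype P)) : KZero.K0sub P) from rfl, map_neg, map_neg, ih]
      | add a b iha ihb => rw [QuotientAddGroup.mk_add, map_add, map_add, iha, ihb]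
  have hsurj : Function.Surjective α := by
    intro y
    induction y using QuotientAddGroup.induction_on with
    | H z =>
      induction z using FreeAbelianGroup.induction_on with
      | zero => exact ⟨0, map_zero α⟩
      | of K =>
        obtain ⟨⟨a, b, ha, hb⟩, _⟩ := (hQ _).1 K.2
        have := mem_of_window Q hQ hP α.range (fun Y hY => ⟨_, hα Y hY⟩) (b + 1 - a).toNat a K.1 K.2 ha
          ((K.1.isLE_iff _).2 fun i hi => (K.1.isLE_iff b).1 hb i (by omega))
        rw [KZero.clTr, dif_pos K.2] at this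
        exact this
      | neg Y ih =>
        obtain ⟨x, hx⟩ := ih
        exact ⟨-x, by rw [map_neg, hx]; rfl⟩
      | add a b iha ihb =>
        obtain ⟨x, hx⟩ := iha
        obtain ⟨y, hy⟩ := ihb
        exact ⟨x + y, by rw [map_add, hx, hy]; rfl⟩
  exact ⟨AddEquiv.ofBijective α ⟨Function.LeftInverse.injective hβ, hsurj⟩, hα⟩

end Compare

end Groth.Agent.KZeroDb
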